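import Mathlib

/-!
# Counting the branches of a hypersurface section
-/

set_option autoImplicit false
universe u

namespace Groth.Agent.ReducedHypersurface

open IsLocalRing

/-- In a Noetherian local ring, pairwise incomparable primes containing `f` and avoiding `y` are at most
`length (A / I)` many, for `I` an ideal of finite colength inside each `Q + (y)`. -/
theorem card_le_length {A : Type u} [CommRing A] [IsNoetherianRing A] [IsLocalRing A] (I : Ideal A)
    {y : A} (hy : y ∈ maximalIdeal A) (s : Finset (Ideal A)) (hprime : ∀ Q ∈ s, Q.IsPrime)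
    (hanti : ∀ Q ∈ s, ∀ Q' ∈ s, Q' ≤ Q → Q' = Q) (hyQ : ∀ Q ∈ s, y ∉ Q)
    (hI : ∀ t ⊆ s, I ≤ t.inf id ⊔ Ideal.span {y}) :
    (s.card : ℕ∞) ≤ Module.length (A ⧸ I) (A ⧸ I) := by
  classical
  let G : Finset (Ideal A) → Ideal (A ⧸ I) := fun t =>
    (t.inf id ⊔ Ideal.span {y}).map (Ideal.Quotient.mk I)
  suffices H : ∀ t ⊆ s, (t.card : ℕ∞) ≤ Order.coheight (G t) by
    refine (H s subset_rfl).trans ?_
    rw [Module.length_eq_coheight]
    exact Order.coheight_anti bot_le
  intro t ht
  induction t using Finset.induction_on with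
  | empty => simp
  | insert Q t hQt ih =>
    obtain ⟨hQs, hts⟩ := Finset.insert_subset_iff.1 ht
    rw [Finset.card_insert_of_notMem hQt, Nat.cast_add, Nat.cast_one]
    refine (add_le_add_left (ih hts) 1).trans (Order.coheight_add_one_le ?_)
    have hle : (insert Q t).inf id ≤ t.inf id := Finset.inf_mono (Finset.subset_insert Q t)
    refine lt_of_le_of_ne (Ideal.map_mono (sup_le_sup_right hle _)) fun heq => ?_
    have h1 : t.inf id ≤ (insert Q t).inf id ⊔ Ideal.span {y} := by
      have := congrArg (Ideal.comap (Ideal.Quotient.mk I)) heq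
      simp only [G, Ideal.comap_map_of_surjective _ Ideal.Quotient.mk_surjective,
        ← RingHom.ker_eq_comap_bot, Ideal.mk_ker, sup_eq_left.2 (hI _ hts),
        sup_eq_left.2 (hI _ (Finset.insert_subset_iff.2 ⟨hQs, hts⟩))] at this
      rw [this]
      exact le_sup_left
    have h2 : t.inf id ≤ (insert Q t).inf id ⊔ maximalIdeal A • t.inf id := by
      intro a ha
      obtain ⟨b, hb, c, hc, rfl⟩ := Submodule.mem_sup.1 (h1 ha)
      obtain ⟨d, rfl⟩ := Ideal.mem_span_singleton.1 hc
      refine Submodule.mem_sup.2 ⟨b, hb, _, ?_, rfl⟩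
      rw [smul_eq_mul]
      refine Ideal.mul_mem_mul hy (Submodule.mem_finsetInf.2 fun Q' hQ' => ?_)
      have hyd : y * d ∈ Q' := by
        have hm : y * d ∈ t.inf id := by simpa using sub_mem ha (hle hb)
        exact Submodule.mem_finsetInf.1 hm Q' hQ'
      exact ((hprime Q' (hts hQ')).mem_or_mem hyd).resolve_left (hyQ Q' (hts hQ'))
    have h3 : t.inf id ≤ (insert Q t).inf id :=
      Submodule.le_of_le_smul_of_le_jacobson_bot (IsNoetherian.noetherian _)
        (maximalIdeal_le_jacobson _) h2
    have h4 : t.inf id ≤ Q := h3.trans (Finset.inf_le (Finset.mem_insert_self Q t))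
    obtain ⟨Q', hQ', hle'⟩ := (Ideal.IsPrime.inf_le' (hprime Q hQs)).1 h4
    exact hQt (hanti Q hQs Q' (hts hQ') hle' ▸ hQ')

end Groth.Agent.ReducedHypersurface
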