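import Groth.Agent.DepthLib.SerreNormal
import Mathlib

/-!
# Principal ideals of normal Noetherian domains and a bound on their minimal primes
-/

set_option autoImplicit false
universe u

namespace Groth.Agent.ReducedHypersurface

open IsLocalRing

variable {R : Type u} [CommRing R] [IsNoetherianRing R] [IsDomain R] [IsIntegrallyClosed R]

/-- Divisibility can be checked at the primes of height one. -/
theorem mem_span_of_height_one {x y : R} (hx : x ≠ 0)
    (h : ∀ (P : Ideal R) [P.IsPrime], P.height = 1 →
      algebraMap R (Localization.AtPrime P) y ∈ Ideal.span {algebraMap R (Localization.AtPrime P) x}) :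
    y ∈ Ideal.span {x} := by
  let K : Ideal R := Submodule.comap (LinearMap.mulRight R y) (Ideal.span {x})
  suffices hK : ∀ P : PrimeSpectrum R, ¬ K ≤ P.asIdeal by
    by_contra hy
    have hne : K ≠ ⊤ := fun e => hy (by
      have : (1 : R) ∈ K := e ▸ Submodule.mem_top
      simpa [K] using this)
    obtain ⟨M, hM, hle⟩ := Ideal.exists_le_maximal K hne
    exact hK ⟨M, hM.isPrime⟩ hle
  intro P
  induction hn : P.asIdeal.height using WellFoundedLT.induction generalizing P with
  | _ n ih =>
  intro hle
  let A := Localization.AtPrime P.asIdeal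
  have : IsIntegrallyClosed A :=
    isIntegrallyClosed_of_isLocalization A P.asIdeal.primeCompl P.asIdeal.primeCompl_le_nonZeroDivisors
  have hxK : x ∈ K := by
    simp only [K, Submodule.mem_comap, LinearMap.mulRight_apply]
    exact Ideal.mul_mem_right _ _ (Ideal.mem_span_singleton_self x)
  have hmem : algebraMap R A y ∈ Ideal.span {algebraMap R A x} := by
    rcases lt_trichotomy n 1 with hlt | heq | hgt
    · exfalso
      rw [Order.lt_one_iff] at hlt
      rw [hlt, Ideal.height_eq_zero_iff, IsDomain.minimalPrimes_eq_singleton_bot,
        Set.mem_singleton_iff] at hn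
      exact hx (by simpa [hn] using hle hxK)
    · exact h P.asIdeal (hn.trans heq)
    · have hdim : 1 < ringKrullDim A := by
        rw [IsLocalization.AtPrime.ringKrullDim_eq_height P.asIdeal A, hn]
        exact_mod_cast hgt
      have hx0 : algebraMap R A x ≠ 0 := fun e => hx
        (IsLocalization.injective A P.asIdeal.primeCompl_le_nonZeroDivisors (e.trans (map_zero _).symm))
      refine DepthLib.mem_span_singleton_of_forall_nonmax
        (DepthLib.two_le_depth_of_isIntegrallyClosed hdim)
        (IsLocalization.AtPrime.to_map_mem_maximal_iff A P.asIdeal x |>.2 (hle hxK))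
        (fun a b hab => mul_left_cancel₀ hx0 hab) fun Q hQ hne => ?_
      let q : PrimeSpectrum R := ⟨Q.comap (algebraMap R A), Ideal.IsPrime.comap _⟩
      have hlt : q.asIdeal < P.asIdeal := by
        refine lt_of_le_of_ne ?_ fun e => hne ?_
        · exact (Ideal.comap_mono (f := algebraMap R A) (le_maximalIdeal hQ.ne_top)).trans
            (fun z hz => (IsLocalization.AtPrime.to_map_mem_maximal_iff A P.asIdeal z).1 hz)
        · change Q.under R = P.asIdeal at e
          rw [← IsLocalization.map_under P.asIdeal.primeCompl A Q, e,
            Localization.AtPrime.map_eq_maximalIdeal]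
      have hfin : q.asIdeal.height < n := hn ▸ Ideal.height_strict_mono_of_isPrime_of_isPrime hlt
      obtain ⟨t, htK, htq⟩ := SetLike.not_le_iff_exists.1 (ih _ hfin q rfl)
      refine ⟨algebraMap R A t, htq, ?_⟩
      have : t * y ∈ Ideal.span {x} := htK
      rw [← map_mul, ← Set.image_singleton, ← Ideal.map_span]
      exact Ideal.mem_map_of_mem _ this
  rw [← Set.image_singleton, ← Ideal.map_span,
    IsLocalization.algebraMap_mem_map_algebraMap_iff P.asIdeal.primeCompl] at hmem
  obtain ⟨s, hs, hsy⟩ := hmem
  exact hs (hle hsy)

/-- The localisation at a height one prime is a discrete valuation ring. -/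
theorem isPrincipal_of_height_one (P : Ideal R) [P.IsPrime] (hP : P.height = 1) :
    ∃ π : R, π ∈ P ∧
      maximalIdeal (Localization.AtPrime P) = Ideal.span {algebraMap R (Localization.AtPrime P) π} := by
  let A := Localization.AtPrime P
  have : IsIntegrallyClosed A :=
    isIntegrallyClosed_of_isLocalization A P.primeCompl P.primeCompl_le_nonZeroDivisors
  have hdim : ringKrullDim A = 1 := by
    rw [IsLocalization.AtPrime.ringKrullDim_eq_height P A, hP]; rfl
  have hreg := DepthLib.isRegularLocalRing_of_isIntegrallyClosed (A := A) hdim.le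
  have hfr : (maximalIdeal A).spanFinrank = 1 := by
    have := hreg.spanFinrank_maximalIdeal
    rw [hdim] at this
    exact_mod_cast this
  obtain ⟨⟨p, hp⟩, -⟩ := (Submodule.spanFinrank_eq_one_iff _).1 hfr
  obtain ⟨r, s, hrs⟩ := IsLocalization.exists_mk'_eq P.primeCompl p
  have hspan : maximalIdeal A = Ideal.span {algebraMap R A r} := by
    rw [hp, ← IsLocalization.mk'_spec A r s, hrs,
      Ideal.span_singleton_mul_right_unit (IsLocalization.map_units A s)]
  exact ⟨r, (IsLocalization.AtPrime.to_map_mem_maximal_iff A P r).1
    (hspan ▸ Ideal.mem_span_singleton_self _), hspan⟩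

end Groth.Agent.ReducedHypersurface
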