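import Groth.Agent.ReducedHypersurface.Local
import Groth.Agent.ReducedHypersurface.Count

/-!
# Reduced principal hypersurfaces through a given closed set
-/

set_option autoImplicit false
set_option maxHeartbeats 400000
universe u

namespace Groth.Agent.ReducedHypersurface

open IsLocalRing

variable {R : Type u} [CommRing R] [IsNoetherianRing R] [IsDomain R] [IsIntegrallyClosed R]

/-- `f` vanishes to order at most one at `Q`. -/
def Simple (f : R) (Q : Ideal R) [Q.IsPrime] : Prop :=
  maximalIdeal (Localization.AtPrime Q) ≤ Ideal.span {algebraMap R (Localization.AtPrime Q) f}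

theorem height_one_of_mem_minimalPrimes {f : R} (hf : f ≠ 0) {Q : Ideal R}
    (hQ : Q ∈ (Ideal.span {f}).minimalPrimes) : Q.height = 1 := by
  haveI := hQ.isPrime
  refine le_antisymm (Ideal.height_le_one_of_isPrincipal_of_mem_minimalPrimes (Ideal.span {f}) Q hQ) ?_
  rw [ENat.one_le_iff_ne_zero, ne_eq, Ideal.height_eq_zero_iff, IsDomain.minimalPrimes_eq_singleton_bot,
    Set.mem_singleton_iff]
  intro e
  exact hf (by simpa [e] using hQ.le (Ideal.mem_span_singleton_self f))

theorem mem_minimalPrimes_of_height_one {f : R} (hf : f ≠ 0) {Q : Ideal R} [Q.IsPrime] (hQ : Q.height = 1)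
    (hfQ : f ∈ Q) : Q ∈ (Ideal.span {f}).minimalPrimes := by
  refine ⟨⟨‹_›, (Ideal.span_singleton_le_iff_mem _).2 hfQ⟩, fun P ⟨hP, hfP⟩ hPQ => ?_⟩
  by_contra hne
  haveI := hP
  have hlt : P < Q := lt_of_le_not_ge hPQ hne
  have h1 := (Ideal.height_strict_mono_of_isPrime_of_isPrime hlt).trans_eq hQ
  rw [Order.lt_one_iff, Ideal.height_eq_zero_iff, IsDomain.minimalPrimes_eq_singleton_bot,
    Set.mem_singleton_iff] at h1
  exact hf (by simpa [h1] using hfP (Ideal.mem_span_singleton_self f))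

/-- If `f` is simple at all its primes then `R / (f)` is reduced. -/
theorem isReduced_of_simple {f : R} (hf : f ≠ 0)
    (h : ∀ (Q : Ideal R) [Q.IsPrime], Q.height = 1 → f ∈ Q → Simple f Q) :
    IsReduced (R ⧸ Ideal.span {f}) := by
  rw [← Ideal.isRadical_iff_quotient_reduced]
  rintro x ⟨n, hn⟩
  refine mem_span_of_height_one hf fun P _ hP => ?_
  by_cases hfP : f ∈ P
  · have hxP : x ∈ P := Ideal.IsPrime.mem_of_pow_mem ‹_› n
      ((Ideal.span_singleton_le_iff_mem _).2 hfP hn)
    exact h P hP hfP ((IsLocalization.AtPrime.to_map_mem_maximal_iff _ P x).2 hxP)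
  · rw [Ideal.span_singleton_eq_top.2 (IsLocalization.map_units _ (⟨f, hfP⟩ : P.primeCompl))]
    exact Submodule.mem_top

variable [IsLocalRing R]

theorem mul_le_right' {I J : Ideal R} : I * J ≤ J :=
  Ideal.mul_le.2 fun a _ _ hb => Ideal.mul_mem_left _ a hb

/-- The perturbation step: a multiple component can be made simple, gaining a new one. -/
theorem exists_perturb {J : Ideal R} (hJ : J.IsRadical) (hJ0 : J ≠ ⊥) {f y : R} (hf : f ≠ 0)
    (hfJ : f ∈ J) (hym : y ∈ maximalIdeal R) (hy : ∀ P ∈ (Ideal.span {f}).minimalPrimes, y ∉ P)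
    {Q : Ideal R} [Q.IsPrime] (hQ : Q.height = 1) (hfQ : f ∈ Q) (hns : ¬ Simple f Q) :
    ∃ f' : R, f' ≠ 0 ∧ f' ∈ J ∧
      (∀ P ∈ (Ideal.span {f'}).minimalPrimes, y ∉ P) ∧
      Ideal.span {f', y} = Ideal.span {f, y} ∧
      (Ideal.span {f}).minimalPrimes ⊂ (Ideal.span {f'}).minimalPrimes := by
  classical
  let A := Localization.AtPrime Q
  have hfin := Ideal.finite_minimalPrimes_of_isNoetherianRing R (Ideal.span {f})
  have hQS := mem_minimalPrimes_of_height_one hf hQ hfQ
  -- an element of `J` simple at `Q`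
  obtain ⟨w₀, hw₀Q, hw₀⟩ := isPrincipal_of_height_one Q hQ
  have hJfin := Ideal.finite_minimalPrimes_of_isNoetherianRing R J
  obtain ⟨t₀, ht₀, ht₀Q⟩ : ∃ t₀, (∀ P ∈ J.minimalPrimes, P ≠ Q → t₀ ∈ P) ∧ t₀ ∉ Q := by
    have hnle : ¬ (hJfin.toFinset.erase Q).inf id ≤ Q := by
      intro hle
      obtain ⟨P, hP, hPQ⟩ := (Ideal.IsPrime.inf_le' ‹_›).1 hle
      rw [Finset.mem_erase, Set.Finite.mem_toFinset] at hP
      haveI := hP.2.isPrime
      replace hPQ : P ≤ Q := hPQ
      have h1 := (Ideal.height_strict_mono_of_isPrime_of_isPrime (lt_of_le_of_ne hPQ hP.1)).trans_eq hQ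
      rw [Order.lt_one_iff, Ideal.height_eq_zero_iff, IsDomain.minimalPrimes_eq_singleton_bot,
        Set.mem_singleton_iff] at h1
      exact hJ0 (eq_bot_iff.2 (hP.2.le.trans h1.le))
    obtain ⟨t₀, ht₀, ht₀Q⟩ := SetLike.not_le_iff_exists.1 hnle
    exact ⟨t₀, fun P hP hne => Submodule.mem_finsetInf.1 ht₀ P
      (Finset.mem_erase.2 ⟨hne, hJfin.mem_toFinset.2 hP⟩), ht₀Q⟩
  have hwJ : t₀ * w₀ ∈ J := by
    rw [← hJ.radical, ← Ideal.sInf_minimalPrimes, Submodule.mem_sInf]
    intro P hP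
    by_cases hPQ : P = Q
    · exact hPQ ▸ Ideal.mul_mem_left _ _ hw₀Q
    · exact Ideal.mul_mem_right _ _ (ht₀ P hP hPQ)
  -- a factor flat at the other primes of `f`
  have hex : ∀ P ∈ (Ideal.span {f}).minimalPrimes, P ≠ Q → ∃ s ∈ P, s ∉ Q ∧ ∃ _ : P.IsPrime,
      ∃ n : ℕ, algebraMap R (Localization.AtPrime P) s ^ n ∈
        Ideal.span {algebraMap R (Localization.AtPrime P) f} * maximalIdeal (Localization.AtPrime P) := by
    intro P hP hne
    haveI := hP.isPrime
    obtain ⟨s, hsP, hsQ⟩ := SetLike.not_le_iff_exists.1 fun hle => hne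
      (le_antisymm hle (hQS.2 ⟨hP.isPrime, hP.le⟩ hle))
    refine ⟨s, hsP, hsQ, inferInstance, ?_⟩
    let B := Localization.AtPrime P
    have hrad : algebraMap R B s ∈ (Ideal.span {algebraMap R B f} * maximalIdeal B).radical := by
      rw [Ideal.radical_eq_sInf, Submodule.mem_sInf]
      rintro M ⟨hM, hMp⟩
      haveI := hMp
      have hsub : P ≤ Ideal.comap (algebraMap R B) M := by
        refine hP.2 ⟨Ideal.IsPrime.comap (algebraMap R B), (Ideal.span_singleton_le_iff_mem _).2 ?_⟩
          ((Ideal.comap_mono (le_maximalIdeal hMp.ne_top)).trans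
            (fun z hz => (IsLocalization.AtPrime.to_map_mem_maximal_iff B P z).1 hz))
        rcases hMp.mul_le.1 hM with h' | h'
        · exact h' (Ideal.mem_span_singleton_self _)
        · exact h' ((IsLocalization.AtPrime.to_map_mem_maximal_iff B P f).2
            ((Ideal.span_singleton_le_iff_mem _).1 hP.le))
      exact hsub hsP
    exact hrad
  choose! s hsP hsQ hPp n hn using hex
  let S := hfin.toFinset.erase Q
  obtain ⟨g, hgdef⟩ : ∃ g : R, g = (t₀ * w₀) * (y * y * ∏ P ∈ S, s P ^ n P) := ⟨_, rfl⟩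
  obtain ⟨f', hf'def⟩ : ∃ f' : R, f' = f + g := ⟨_, rfl⟩
  have hgJ : g ∈ J := hgdef ▸ Ideal.mul_mem_right _ _ hwJ
  have hS : ∀ P ∈ S, P ∈ (Ideal.span {f}).minimalPrimes ∧ P ≠ Q := fun P hP => by
    rw [Finset.mem_erase, Set.Finite.mem_toFinset] at hP; exact ⟨hP.2, hP.1⟩
  have hcoQ : t₀ * (y * y * ∏ P ∈ S, s P ^ n P) ∉ Q := by
    have hyQ := hy Q hQS
    refine Ideal.IsPrime.mul_notMem ‹_› ht₀Q (Ideal.IsPrime.mul_notMem ‹_›
      (Ideal.IsPrime.mul_notMem ‹_› hyQ hyQ) fun hp => ?_)
    obtain ⟨P, hP, hPQ⟩ := Ideal.IsPrime.prod_mem_iff.1 hp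
    exact hsQ P (hS P hP).1 (hS P hP).2 (Ideal.IsPrime.mem_of_pow_mem ‹_› _ hPQ)
  have hgI : g ∈ maximalIdeal R * Ideal.span {f, y} := by
    have h := Ideal.mul_mem_left (maximalIdeal R * Ideal.span {f, y}) (t₀ * w₀ * ∏ P ∈ S, s P ^ n P)
      (Ideal.mul_mem_mul hym (Ideal.subset_span (by simp) : y ∈ Ideal.span {f, y}))
    convert h using 1
    rw [hgdef]; ring
  have hIeq : Ideal.span {f', y} = Ideal.span {f, y} := by
    have hle : Ideal.span {f', y} ≤ Ideal.span {f, y} := by
      rw [Ideal.span_le]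
      intro z hz
      rcases Set.mem_insert_iff.1 hz with hz | hz
      · rw [hz, hf'def]
        exact add_mem (Ideal.subset_span (Set.mem_insert f {y})) (mul_le_right' (I := maximalIdeal R) hgI)
      · exact Ideal.subset_span (Set.mem_insert_of_mem f hz)
    refine le_antisymm hle ?_
    refine Submodule.le_of_le_smul_of_le_jacobson_bot (IsNoetherian.noetherian _)
      (maximalIdeal_le_jacobson _) ?_
    rw [Ideal.span_le]
    intro z hz
    rcases Set.mem_insert_iff.1 hz with hz | hz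
    · rw [hz]
      refine Submodule.mem_sup.2 ⟨f', Ideal.subset_span (Set.mem_insert f' {y}), -g, neg_mem ?_, ?_⟩
      · exact hgI
      · rw [hf'def, add_neg_cancel_right]
    · exact Submodule.mem_sup_left (Ideal.subset_span (Set.mem_insert_of_mem f' hz))
  -- `f'` is simple at `Q`
  have hfQ' : f' ∈ Q := hf'def ▸ hgdef ▸ add_mem hfQ (Ideal.mul_mem_right _ _ (Ideal.mul_mem_left _ _ hw₀Q))
  have hsimple : Simple f' Q := by
    have hfm : algebraMap R A f ∈ maximalIdeal A :=
      (IsLocalization.AtPrime.to_map_mem_maximal_iff A Q f).2 hfQ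
    rw [hw₀, Ideal.mem_span_singleton] at hfm
    obtain ⟨c, hc⟩ := hfm
    have hcm : c ∈ maximalIdeal A := by
      by_contra hcm
      apply hns
      rw [Simple, hw₀, hc,
        Ideal.span_singleton_mul_right_unit (notMem_maximalIdeal.1 hcm)]
    have hu : IsUnit (c + algebraMap R A (t₀ * (y * y * ∏ P ∈ S, s P ^ n P))) := by
      by_contra hu
      have := sub_mem ((mem_maximalIdeal _).2 hu) hcm
      rw [add_sub_cancel_left] at this
      exact hcoQ ((IsLocalization.AtPrime.to_map_mem_maximal_iff A Q _).1 this)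
    have he : algebraMap R A f' = algebraMap R A w₀ *
        (c + algebraMap R A (t₀ * (y * y * ∏ P ∈ S, s P ^ n P))) := by
      rw [hf'def, hgdef, map_add, hc]; simp only [map_mul]; ring
    rw [Simple, he, Ideal.span_singleton_mul_right_unit hu, hw₀]
  have hf'0 : f' ≠ 0 := by
    intro e
    rw [Simple, e, map_zero, Ideal.span_singleton_eq_bot.2 rfl, le_bot_iff] at hsimple
    apply hns
    rw [Simple, hsimple]
    exact bot_le
  -- the other components stay with the same order
  have hother : ∀ (P : Ideal R) [P.IsPrime], P ∈ (Ideal.span {f}).minimalPrimes → P ≠ Q →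
      ∃ u, IsUnit u ∧ algebraMap R (Localization.AtPrime P) f' =
        algebraMap R (Localization.AtPrime P) f * u := by
    intro P _ hP hne
    let B := Localization.AtPrime P
    have hPS : P ∈ S := Finset.mem_erase.2 ⟨hne, hfin.mem_toFinset.2 hP⟩
    have hg : algebraMap R B g ∈ Ideal.span {algebraMap R B f} * maximalIdeal B := by
      rw [hgdef]
      simp only [map_mul, map_prod, map_pow]
      exact Ideal.mul_mem_left _ _ (Ideal.mul_mem_left _ _
        (Ideal.prod_mem _ hPS (hn P hP hne)))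
    obtain ⟨d, hd, hde⟩ := Ideal.mem_span_singleton_mul.1 hg
    refine ⟨1 + d, ?_, by rw [hf'def, map_add, ← hde, mul_add, mul_one]⟩
    by_contra hu
    have := sub_mem ((mem_maximalIdeal _).2 hu) hd
    rw [add_sub_cancel_right] at this
    exact (mem_maximalIdeal _).1 this isUnit_one
  have hsub : (Ideal.span {f}).minimalPrimes ⊆ (Ideal.span {f'}).minimalPrimes := by
    intro P hP
    haveI := hP.isPrime
    refine mem_minimalPrimes_of_height_one hf'0 (height_one_of_mem_minimalPrimes hf hP) ?_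
    by_cases hne : P = Q
    · exact hne ▸ hfQ'
    · obtain ⟨u, -, he⟩ := hother P hP hne
      refine (IsLocalization.AtPrime.to_map_mem_maximal_iff (Localization.AtPrime P) P f').1 ?_
      rw [he]
      exact Ideal.mul_mem_right _ _ ((IsLocalization.AtPrime.to_map_mem_maximal_iff _ P f).2
        ((Ideal.span_singleton_le_iff_mem _).1 hP.le))
  have hy' : ∀ P ∈ (Ideal.span {f'}).minimalPrimes, y ∉ P := by
    intro P hP hyP
    haveI := hP.isPrime
    have hfP : f ∈ P := by
      have : f ∈ Ideal.span {f', y} := hIeq ▸ Ideal.subset_span (by simp)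
      refine (Ideal.span_le.2 ?_ : Ideal.span {f', y} ≤ P) this
      rintro _ (rfl | rfl)
      · exact (Ideal.span_singleton_le_iff_mem _).1 hP.le
      · exact hyP
    exact hy P (mem_minimalPrimes_of_height_one hf (height_one_of_mem_minimalPrimes hf'0 hP) hfP) hyP
  refine ⟨f', hf'0, hf'def ▸ add_mem hfJ hgJ, hy', hIeq, hsub, fun hsup => ?_⟩
  -- otherwise `f` would be a multiple of `f'`
  have hmem : f ∈ Ideal.span {f'} := by
    refine mem_span_of_height_one hf'0 fun P _ hP1 => ?_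
    by_cases hf'P : f' ∈ P
    · by_cases hne : P = Q
      · subst hne
        exact hsimple ((IsLocalization.AtPrime.to_map_mem_maximal_iff _ P f).2 hfQ)
      · obtain ⟨u, hu, he⟩ := hother P (hsup (mem_minimalPrimes_of_height_one hf'0 hP1 hf'P)) hne
        rw [he, Ideal.span_singleton_mul_right_unit hu]
        exact Ideal.mem_span_singleton_self _
    · rw [Ideal.span_singleton_eq_top.2 (IsLocalization.map_units _ (⟨f', hf'P⟩ : P.primeCompl))]
      exact Submodule.mem_top
  obtain ⟨h, hh⟩ := Ideal.mem_span_singleton'.1 hmem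
  have hhm : h ∈ maximalIdeal R := by
    by_contra hhm
    apply hns
    rw [Simple, ← hh, map_mul,
      Ideal.span_singleton_mul_left_unit ((notMem_maximalIdeal.1 hhm).map (algebraMap R A))]
    exact hsimple
  have hu : IsUnit (1 - h) := by
    by_contra hu
    have := add_mem ((mem_maximalIdeal _).2 hu) hhm
    rw [sub_add_cancel] at this
    exact (mem_maximalIdeal _).1 this isUnit_one
  have hf'm : f' ∈ maximalIdeal R * Ideal.span {f', y} := by
    rw [← Ideal.unit_mul_mem_iff_mem _ hu, hIeq]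
    convert hgI using 1
    linear_combination hf'def - hh
  rw [Ideal.span_insert, Ideal.mul_sup] at hf'm
  obtain ⟨a, ha, b, hb, hab⟩ := Submodule.mem_sup.1 hf'm
  rw [mul_comm] at ha
  obtain ⟨a', ha', rfl⟩ := Ideal.mem_span_singleton_mul.1 ha
  have hf'y : f' ∈ Ideal.span {y} := by
    have hu' : IsUnit (1 - a') := by
      by_contra hu'
      have := add_mem ((mem_maximalIdeal _).2 hu') ha'
      rw [sub_add_cancel] at this
      exact (mem_maximalIdeal _).1 this isUnit_one
    rw [← Ideal.unit_mul_mem_iff_mem _ hu', show (1 - a') * f' = b by linear_combination -hab]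
    exact mul_le_right' hb
  have hy0 : y ≠ 0 := fun e => hy Q hQS (e ▸ zero_mem _)
  obtain ⟨⟨P, hP⟩⟩ : Nonempty (Ideal.span {y}).minimalPrimes := Ideal.nonempty_minimalPrimes
    fun e => (mem_maximalIdeal _).1 hym (Ideal.span_singleton_eq_top.1 e)
  haveI := hP.isPrime
  exact hy' P (mem_minimalPrimes_of_height_one hf'0 (height_one_of_mem_minimalPrimes hy0 hP)
    (hP.le hf'y)) ((Ideal.span_singleton_le_iff_mem _).1 hP.le)

/-- A bound for the number of components of `f` in terms of the ideal `(f, y)` alone. -/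
noncomputable def bound (I : Ideal R) : ℕ :=
  open Classical in
  ∑ Z ∈ (Ideal.finite_minimalPrimes_of_isNoetherianRing R I).toFinset,
    if h : Z.IsPrime then
      (Module.length (Localization.AtPrime Z ⧸ I.map (algebraMap R (Localization.AtPrime Z)))
        (Localization.AtPrime Z ⧸ I.map (algebraMap R (Localization.AtPrime Z)))).toNat
    else 0

theorem card_le_bound (H : ∀ (Q : Ideal R) (y : R), Q.IsPrime → Q.height = 1 → y ∉ Q →
      ∀ Z ∈ (Q ⊔ Ideal.span {y}).minimalPrimes, Z.height ≤ 2)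
    {f y : R} (hf : f ≠ 0) (hym : y ∈ maximalIdeal R)
    (hy : ∀ P ∈ (Ideal.span {f}).minimalPrimes, y ∉ P) :
    (Ideal.span {f}).minimalPrimes.ncard ≤ bound (Ideal.span {f, y}) := by
  classical
  let I := Ideal.span {f, y}
  let S := (Ideal.finite_minimalPrimes_of_isNoetherianRing R (Ideal.span {f})).toFinset
  let T := (Ideal.finite_minimalPrimes_of_isNoetherianRing R I).toFinset
  rw [Set.ncard_eq_toFinset_card _ (Ideal.finite_minimalPrimes_of_isNoetherianRing R _)]
  have hcover : ∀ Q ∈ S, ∃ Z ∈ T, Q ≤ Z := by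
    intro Q hQ
    rw [Set.Finite.mem_toFinset] at hQ
    haveI := hQ.isPrime
    have hne : Q ⊔ Ideal.span {y} ≤ maximalIdeal R :=
      sup_le (le_maximalIdeal hQ.isPrime.ne_top) ((Ideal.span_singleton_le_iff_mem _).2 hym)
    obtain ⟨Z, hZ, -⟩ := Ideal.exists_minimalPrimes_le (J := maximalIdeal R) hne
    haveI := hZ.isPrime
    have hQZ : Q ≤ Z := le_sup_left.trans hZ.le
    have hIZ : I ≤ Z := by
      rw [Ideal.span_le]
      rintro _ (rfl | rfl)
      · exact hQZ ((Ideal.span_singleton_le_iff_mem _).1 hQ.le)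
      · exact (Ideal.span_singleton_le_iff_mem _).1 (le_sup_right.trans hZ.le)
    have h2 := H Q y hQ.isPrime (height_one_of_mem_minimalPrimes hf hQ) (hy Q hQ) Z hZ
    refine ⟨Z, (Set.Finite.mem_toFinset _).2 ⟨⟨hZ.isPrime, hIZ⟩, fun Z' ⟨hZ', hIZ'⟩ hle => ?_⟩, hQZ⟩
    by_contra hne'
    haveI := hZ'
    obtain ⟨Q', hQ', hQ'Z⟩ := Ideal.exists_minimalPrimes_le (I := Ideal.span {f}) (J := Z')
      ((Ideal.span_mono (by simp)).trans hIZ')
    haveI := hQ'.isPrime
    have l1 : Q' < Z' := lt_of_le_of_ne hQ'Z fun e =>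
      hy Q' hQ' (e ▸ hIZ' (Ideal.subset_span (by simp)))
    have a1 := Ideal.height_strict_mono_of_isPrime_of_isPrime l1
    have a2 := Ideal.height_strict_mono_of_isPrime_of_isPrime (lt_of_le_not_ge hle hne')
    rw [height_one_of_mem_minimalPrimes hf hQ'] at a1
    have a3 : (2 : ℕ∞) ≤ Z'.height := Order.add_one_le_of_lt a1
    exact absurd ((a3.trans_lt a2).trans_le h2) (lt_irrefl _)
  have hsub : S ⊆ T.biUnion fun Z => S.filter (· ≤ Z) := fun Q hQ => by
    obtain ⟨Z, hZ, hQZ⟩ := hcover Q hQ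
    exact Finset.mem_biUnion.2 ⟨Z, hZ, Finset.mem_filter.2 ⟨hQ, hQZ⟩⟩
  refine (Finset.card_le_card hsub).trans (Finset.card_biUnion_le.trans (Finset.sum_le_sum fun Z hZ => ?_))
  rw [Set.Finite.mem_toFinset] at hZ
  haveI := hZ.isPrime
  rw [dif_pos hZ.isPrime]
  let A := Localization.AtPrime Z
  let IA := I.map (algebraMap R A)
  have : IsArtinianRing (A ⧸ IA) := by
    refine IsLocalRing.quotient_artinian_of_mem_minimalPrimes_of_isLocalRing IA ?_
    refine ⟨⟨inferInstance, ?_⟩, fun M ⟨hM, hIM⟩ _ => ?_⟩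
    · exact (Ideal.map_mono hZ.le).trans (Localization.AtPrime.map_eq_maximalIdeal (I := Z)).le
    · haveI := hM
      rw [← IsLocalization.map_under Z.primeCompl A M, ← Localization.AtPrime.map_eq_maximalIdeal (I := Z)]
      refine Ideal.map_mono (hZ.2 ⟨Ideal.IsPrime.under R M, Ideal.map_le_iff_le_comap.1 hIM⟩ ?_)
      exact (Ideal.comap_mono (f := algebraMap R A) (le_maximalIdeal hM.ne_top)).trans
        (fun z hz => (IsLocalization.AtPrime.to_map_mem_maximal_iff A Z z).1 hz)
  let U := (S.filter (· ≤ Z)).image (fun Q => Q.map (algebraMap R A))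
  have hprop : ∀ Q ∈ S.filter (· ≤ Z), Q.IsPrime ∧ Disjoint (Z.primeCompl : Set R) Q := fun Q hQ => by
    rw [Finset.mem_filter, Set.Finite.mem_toFinset] at hQ
    exact ⟨hQ.1.isPrime, Set.disjoint_left.2 fun z hz hzQ => hz (hQ.2 hzQ)⟩
  have hinj : Set.InjOn (fun Q => Q.map (algebraMap R A)) (S.filter (· ≤ Z) : Set (Ideal R)) := by
    intro Q hQ Q' hQ' e
    have h1 := IsLocalization.under_map_of_isPrime_disjoint Z.primeCompl A (hprop Q hQ).1 (hprop Q hQ).2
    have h2 := IsLocalization.under_map_of_isPrime_disjoint Z.primeCompl A (hprop Q' hQ').1 (hprop Q' hQ').2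
    rw [← h1, ← h2]
    exact congrArg (Ideal.under R) e
  have hlen : (U.card : ℕ∞) ≤ Module.length (A ⧸ IA) (A ⧸ IA) := by
    refine card_le_length IA (y := algebraMap R A y) ?_ U ?_ ?_ ?_ ?_
    · exact (IsLocalization.AtPrime.to_map_mem_maximal_iff A Z y).2 (hZ.le (Ideal.subset_span (by simp)))
    · intro M hM
      obtain ⟨Q, hQ, rfl⟩ := Finset.mem_image.1 hM
      exact IsLocalization.isPrime_of_isPrime_disjoint Z.primeCompl A Q (hprop Q hQ).1 (hprop Q hQ).2
    · intro M hM M' hM' hle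
      obtain ⟨Q, hQ, rfl⟩ := Finset.mem_image.1 hM
      obtain ⟨Q', hQ', rfl⟩ := Finset.mem_image.1 hM'
      have h1 := IsLocalization.under_map_of_isPrime_disjoint Z.primeCompl A (hprop Q hQ).1 (hprop Q hQ).2
      have h2 := IsLocalization.under_map_of_isPrime_disjoint Z.primeCompl A (hprop Q' hQ').1 (hprop Q' hQ').2
      have hQQ : Q' ≤ Q := h2.symm.le.trans ((Ideal.comap_mono hle).trans h1.le)
      have m1 := (Set.Finite.mem_toFinset _).1 (Finset.mem_filter.1 hQ).1
      have m2 := (Set.Finite.mem_toFinset _).1 (Finset.mem_filter.1 hQ').1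
      exact congrArg (Ideal.map (algebraMap R A)) (le_antisymm hQQ (m1.2 ⟨m2.isPrime, m2.le⟩ hQQ))
    · intro M hM hyM
      obtain ⟨Q, hQ, rfl⟩ := Finset.mem_image.1 hM
      have h1 := IsLocalization.under_map_of_isPrime_disjoint Z.primeCompl A (hprop Q hQ).1 (hprop Q hQ).2
      exact hy Q ((Set.Finite.mem_toFinset _).1 (Finset.mem_filter.1 hQ).1) (h1.le hyM)
    · intro t ht
      simp only [IA, I, Ideal.map_span]
      rw [Ideal.span_le]
      rintro _ ⟨z, (rfl | rfl), rfl⟩
      · refine Ideal.mem_sup_left (Submodule.mem_finsetInf.2 fun M hM => ?_)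
        obtain ⟨Q, hQ, rfl⟩ := Finset.mem_image.1 (ht hM)
        exact Ideal.mem_map_of_mem _ ((Ideal.span_singleton_le_iff_mem _).1
          ((Set.Finite.mem_toFinset _).1 (Finset.mem_filter.1 hQ).1).le)
      · exact Ideal.mem_sup_right (Ideal.mem_span_singleton_self _)
  rw [Finset.card_image_of_injOn hinj] at hlen
  exact ENat.toNat_le_toNat hlen Module.length_ne_top

/-- Through any nonzero radical ideal there passes a reduced hypersurface. -/
theorem exists_isReduced (H : ∀ (Q : Ideal R) (y : R), Q.IsPrime → Q.height = 1 → y ∉ Q →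
      ∀ Z ∈ (Q ⊔ Ideal.span {y}).minimalPrimes, Z.height ≤ 2)
    {J : Ideal R} (hJ : J.IsRadical) (hJ0 : J ≠ ⊥) :
    ∃ f ∈ J, f ≠ 0 ∧ IsReduced (R ⧸ Ideal.span {f}) := by
  classical
  by_cases hJtop : J = ⊤
  · refine ⟨1, hJtop ▸ Submodule.mem_top, one_ne_zero, ?_⟩
    have : Subsingleton (R ⧸ Ideal.span {(1 : R)}) :=
      Ideal.Quotient.subsingleton_iff.2 Ideal.span_singleton_one
    infer_instance
  obtain ⟨f₀, hf₀J, hf₀⟩ := Submodule.exists_mem_ne_zero_of_ne_bot hJ0
  have hfin := Ideal.finite_minimalPrimes_of_isNoetherianRing R (Ideal.span {f₀})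
  by_cases hcase : maximalIdeal R ∈ (Ideal.span {f₀}).minimalPrimes
  · -- dimension one
    have hm := height_one_of_mem_minimalPrimes hf₀ hcase
    obtain ⟨π, hπ, hπe⟩ := isPrincipal_of_height_one (maximalIdeal R) hm
    have hJm : maximalIdeal R ≤ J := by
      rw [← hJ.radical, ← Ideal.sInf_minimalPrimes]
      refine le_sInf fun P hP => ?_
      haveI := hP.isPrime
      exact hcase.2 ⟨hP.isPrime, (Ideal.span_singleton_le_iff_mem _).2 (hP.le hf₀J)⟩
        (le_maximalIdeal hP.isPrime.ne_top)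
    have hπ0 : π ≠ 0 := by
      intro e
      rw [e, map_zero, Ideal.span_singleton_eq_bot.2 rfl] at hπe
      apply hf₀
      have h := (IsLocalization.AtPrime.to_map_mem_maximal_iff
        (Localization.AtPrime (maximalIdeal R)) (maximalIdeal R) f₀).2 ((Ideal.span_singleton_le_iff_mem _).1 hcase.le)
      rw [hπe, Submodule.mem_bot] at h
      exact IsLocalization.injective _ (maximalIdeal R).primeCompl_le_nonZeroDivisors (h.trans (map_zero _).symm)
    refine ⟨π, hJm hπ, hπ0, isReduced_of_simple hπ0 fun Q hQp hQ hπQ => ?_⟩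
    obtain rfl : Q = maximalIdeal R := by
      by_contra hne
      have := Ideal.height_strict_mono_of_isPrime_of_isPrime (lt_of_le_of_ne (le_maximalIdeal hQp.ne_top) hne)
      rw [hQ, hm] at this
      exact lt_irrefl _ this
    exact hπe.le
  · obtain ⟨y, hym, hy⟩ : ∃ y ∈ maximalIdeal R, ∀ P ∈ (Ideal.span {f₀}).minimalPrimes, y ∉ P := by
      by_contra hall
      push Not at hall
      obtain ⟨P, hP, hle⟩ := (Ideal.subset_union_prime (s := hfin.toFinset) (f := id) ⊥ ⊥
        (fun P hP _ _ => (hfin.mem_toFinset.1 hP).isPrime)).1 (fun y hy => by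
          obtain ⟨P, hP, hyP⟩ := hall y hy
          exact Set.mem_biUnion (hfin.mem_toFinset.2 hP) hyP)
      rw [Set.Finite.mem_toFinset] at hP
      exact hcase (le_antisymm (le_maximalIdeal hP.isPrime.ne_top) hle ▸ hP)
    let C : ℕ → Prop := fun k => ∃ f : R, f ≠ 0 ∧ f ∈ J ∧
      (∀ P ∈ (Ideal.span {f}).minimalPrimes, y ∉ P) ∧
      Ideal.span {f, y} = Ideal.span {f₀, y} ∧ (Ideal.span {f}).minimalPrimes.ncard = k
    let B := bound (Ideal.span {f₀, y})
    have hB : ∀ k, C k → k ≤ B := by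
      rintro k ⟨f, hf, -, hfy, hI, rfl⟩
      exact (card_le_bound H hf hym hfy).trans_eq (congrArg bound hI)
    have hC₀ : C _ := ⟨f₀, hf₀, hf₀J, hy, rfl, rfl⟩
    obtain ⟨k, ⟨f, hf, hfJ, hfy, hI, rfl⟩, hmax⟩ : ∃ k, C k ∧ ∀ l, C l → l ≤ k :=
      ⟨Nat.findGreatest C B, Nat.findGreatest_spec (hB _ hC₀) hC₀,
        fun l hl => Nat.le_findGreatest (hB l hl) hl⟩
    refine ⟨f, hfJ, hf, isReduced_of_simple hf fun Q _ hQ hfQ => ?_⟩
    by_contra hns
    obtain ⟨f', hf', hf'J, hy', hI', hss⟩ := exists_perturb hJ hJ0 hf hfJ hym hfy hQ hfQ hns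
    exact absurd (hmax _ ⟨f', hf', hf'J, hy', hI'.trans hI, rfl⟩) (not_le.2
      (Set.ncard_lt_ncard hss (Ideal.finite_minimalPrimes_of_isNoetherianRing R _)))

end Groth.Agent.ReducedHypersurface
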